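import Groth.Agent.Sga2lef.H82.AtPrime
import Groth.Agent.Sga2lef.H82.Devis
import Groth.Agent.Sga2lef.H82.Squares
import Groth.Agent.Ega3B.Master
import Groth.Agent.Ega3B.FlatTensInv

/-!
# The relative lemma of Enriques–Severi–Zariski over a Noetherian ring
-/

set_option autoImplicit false
universe u
open CategoryTheory CategoryTheory.Limits AlgebraicGeometry Opposite TopologicalSpace

namespace Groth.Agent.Sga2lef.H82.RelEsz

open Groth.Agent.Sga2.TwIt Groth.Agent.VarietyA.EulerLES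
open Groth.Agent.Ega3B.MasterAsm (TF)

theorem isFlatOver_It {X S : Scheme.{u}} (f : X ⟶ S) {P : X.Modules} (hP : PicF.IsInvertible P) {F : X.Modules}
    (hF : FlatMod.IsFlatOver f F) (m : ℕ) : FlatMod.IsFlatOver f ((It P m).obj F) := by
  induction m with
  | zero => exact hF
  | succ m ih =>
    rw [It_succ_obj, Tw_obj]
    exact Groth.Agent.Ega3B.FlatTensInv.isFlatOver_tensor f hP ih

variable (A : Type u) [CommRing A] [IsNoetherianRing A] (X : Scheme.{u}) [X.Over (Spec (CommRingCat.of A))]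
  [IsProper (X ↘ Spec (CommRingCat.of A))]

omit [IsNoetherianRing A] in
/-- transport of power torsion along the comparison with a complex -/
theorem transport (G : X.Modules) (i : ℕ) (Q : ChainComplex (ModuleCat.{u} A) ℤ)
    (α : CohIII.tensorAFunctor A G ⋙ CohIII.HAb X i ≅
      CohIII.TFun Q (-(i : ℤ)) ⋙ forget₂ (ModuleCat.{u} A) AddCommGrpCat.{u}) (M : ModuleCat.{u} A) (c : A)
    (x : (CohIII.TFun Q (-(i : ℤ))).obj M)
    (h : ((TF A G i).map (c • 𝟙 M)).hom (α.inv.app M x) = 0) : c • x = 0 := by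
  have h1 : (α.inv.app M) ≫ (CohIII.tensorAFunctor A G ⋙ CohIII.HAb X i).map (c • 𝟙 M) ≫ α.hom.app M =
      (CohIII.TFun Q (-(i : ℤ)) ⋙ forget₂ (ModuleCat.{u} A) AddCommGrpCat.{u}).map (c • 𝟙 M) := by
    rw [α.hom.naturality, Iso.inv_hom_id_app_assoc]
  have h2 : (CohIII.TFun Q (-(i : ℤ))).map (c • 𝟙 M) = c • 𝟙 _ := by
    rw [Functor.map_smul, CategoryTheory.Functor.map_id]
  have h3 : ((CohIII.TFun Q (-(i : ℤ))).map (c • 𝟙 M)).hom x = c • x := by
    rw [h2]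
    rfl
  rw [← h3]
  have h4 := congr(($h1).hom x)
  refine h4.symm.trans ?_
  exact (congrArg (α.hom.app M).hom h).trans (map_zero _)

theorem relEsz {L P : X.Modules} (hL : ClSub.IsInverseOf L P) (hamp : CohB1.IsAmple L) (F : X.Modules)
    (hF : Coh.IsCoh F) (hfl : FlatMod.IsFlatOver (X ↘ Spec (CommRingCat.of A)) F) (n : ℕ)
    (hd : ∀ (s : Spec (CommRingCat.of A)) (x : (X ↘ Spec (CommRingCat.of A)).fiber s),
      IsClosed ({x} : Set ((X ↘ Spec (CommRingCat.of A)).fiber s)) →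
      (n : ℕ∞) < LocCoh.depth (((X ↘ Spec (CommRingCat.of A)).fiber s).presheaf.stalk x)
        (((Scheme.Modules.pullback ((X ↘ Spec (CommRingCat.of A)).fiberι s)).obj F).presheaf.stalk x)) :
    ∃ m₀ : ℕ, ∀ m, m₀ ≤ m → ∀ i ≤ n, Subsingleton (Coh.HH X (CohB1.tensorMod F (CohB1.tensorPow P m)) i) := by
  have hP : PicF.IsInvertible P := (Groth.Agent.Dix.IdealModCartier.isInvertible_of_isInverseOf hL).2
  have key : ∀ m : ℕ, ∃ Q : ChainComplex (ModuleCat.{u} A) ℤ,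
      (∀ i, Module.Finite A (Q.X i) ∧ Module.Free A (Q.X i)) ∧
      (∃ b : ℤ, ∀ i < b, IsZero (Q.X i)) ∧
      (∀ (i : ℤ) (M : ModuleCat.{u} A), 0 < i → IsZero ((CohIII.TFun Q i).obj M)) ∧
      (∀ p : ℕ, Nonempty (CohIII.tensorAFunctor A ((It P m).obj F) ⋙ CohIII.HAb X p ≅
        CohIII.TFun Q (-(p : ℤ)) ⋙ forget₂ (ModuleCat.{u} A) AddCommGrpCat.{u})) ∧
      (∀ p : ℕ, Nonempty (Q.homology (-(p : ℤ)) ≃ₗ[A] Coh.HH X ((It P m).obj F) p)) := fun m =>
    Groth.Agent.Ega3B.Master.exists_complex_free X _ (Groth.Agent.Sga2.StalkTw.isCoh_It hP hF m)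
      (isFlatOver_It _ hP hfl m)
  choose Q hQ1 _ hQ3 hQ4 hQ5 using key
  have hQf : ∀ m i, Module.Flat A ((Q m).X i) := fun m i => by
    have := (hQ1 m i).2
    infer_instance
  have hpos : ∀ m (M : ModuleCat.{u} A), Subsingleton ((CohIII.TFun (Q m) 1).obj M) := fun m M =>
    ModuleCat.subsingleton_of_isZero (hQ3 m 1 M one_pos)
  have main := Devis.main Q hQf hpos n ?_ (⊥ : Ideal A)
  · obtain ⟨m₀, hm₀⟩ := main
    refine ⟨m₀, fun m hm i hi => ?_⟩
    have h1 := hm₀ m hm i hi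
    let e0 : ModuleCat.of A (A ⧸ (⊥ : Ideal A)) ≅ ModuleCat.of A A :=
      (Submodule.quotEquivOfEqBot (⊥ : Ideal A) rfl).toModuleIso
    have e1 := ((CohIII.TFun (Q m) (-(i : ℤ))).mapIso e0).toLinearEquiv
    have e2 := Groth.Agent.Ega3A.TFunFlat.TunitEquiv (Q m) (-(i : ℤ))
    obtain ⟨e3⟩ := hQ5 m i
    obtain ⟨e4⟩ := Groth.Agent.Sga2.ItPow.nonempty_iso P F m
    have e5 := equivA A e4 i
    exact (((e1.trans e2).trans e3).trans e5).symm.injective.subsingleton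
  · intro p hp
    let s : Spec (CommRingCat.of A) := (⟨p, hp⟩ : PrimeSpectrum A)
    let X₁ : Scheme.{u} := pullback (X ↘ Spec (CommRingCat.of A))
      (Spec.map (CommRingCat.ofHom (algebraMap A (A ⧸ p))))
    let j₁ : X₁ ⟶ X := pullback.fst _ _
    letI : X₁.Over (Spec (CommRingCat.of (A ⧸ p))) := ⟨pullback.snd _ _⟩
    have H₁ : IsPullback j₁ (X₁ ↘ Spec (CommRingCat.of (A ⧸ p))) (X ↘ Spec (CommRingCat.of A))
      (Spec.map (CommRingCat.ofHom (algebraMap A (A ⧸ p)))) := IsPullback.of_hasPullback _ _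
    obtain ⟨j₂, hj₂, H₂⟩ := Squares.exists_square (X ↘ Spec (CommRingCat.of A)) s X₁ j₁ _ H₁
    letI : ((X ↘ Spec (CommRingCat.of A)).fiber s).Over (Spec (CommRingCat.of s.asIdeal.ResidueField)) :=
      ⟨Squares.toKappa _ s⟩
    obtain ⟨a, ha, m₁, hm₁⟩ := AtPrime.at_prime A X hL hamp F hF (A ⧸ p) Ideal.Quotient.mk_surjective
      s.asIdeal.ResidueField X₁ j₁ H₁ ((X ↘ Spec (CommRingCat.of A)).fiber s) j₂ H₂ n (by
        rw [hj₂]
        exact hd s)
    refine ⟨a, fun h => ha (Ideal.Quotient.eq_zero_iff_mem.mpr h), m₁, fun m hm i hi x => ?_⟩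
    obtain ⟨α⟩ := hQ4 m i
    obtain ⟨k, hk⟩ := hm₁ m hm i hi (α.inv.app _ x)
    exact ⟨k, transport A X _ i (Q m) α _ _ x hk⟩

end Groth.Agent.Sga2lef.H82.RelEsz
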