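import Groth.Agent.Sga2.LefMain389
import Groth.Agent.Sga2.LefPow644
import Groth.Agent.CurvesB.UnitCoh
import Groth.Agent.Ega3B.PullTensor
import Groth.Agent.Sga2lef.H82.RelEsz
import Groth.Agent.Sga2lef.H82.FibDepth
import Groth.Agent.Sga2lef.H82.ClosedFib
import Groth.Agent.Fdesc.StructMod
import Groth.Agent.PerfB.StructFlat

/-!
# The Lefschetz condition for an ample divisor on a proper flat scheme over a Noetherian ring
-/

set_option autoImplicit false
universe u
open CategoryTheory CategoryTheory.Limits AlgebraicGeometry Opposite TopologicalSpace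

namespace Groth.Agent.Sga2lef.H82.LefMain

open Groth.Agent Groth.Agent.Sga2

/-- The hypothesis of `RelEsz.relEsz` for `O_X`. -/
theorem depth_fibre {X S : Scheme.{u}} (f : X ⟶ S) (c : ℕ∞)
    (hd : ∀ x : X, IsClosed ({f.asFiber x} : Set (f.fiber (f.base x))) →
      c ≤ LocCoh.depth (CInt.fiberStalk f x) (CInt.fiberStalk f x)) (s : S) (z : f.fiber s)
    (hz : IsClosed ({z} : Set (f.fiber s))) :
    c ≤ LocCoh.depth ((f.fiber s).presheaf.stalk z)
      (((Scheme.Modules.pullback (f.fiberι s)).obj (Coh.structureModule X)).presheaf.stalk z) := by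
  have h1 := FibDepth.isClosed_asFiber_of f z rfl (FibDepth.f_fiberι f s z) hz
  refine (hd _ h1).trans_eq ?_
  rw [Ega4dB.FiberDepth.depth_stalk_fiber, ← Ega4dB.FiberDepth.fiberDepth_eq]
  obtain ⟨e⟩ := Ega3B.PullTensor.nonempty_pullUnitIso (f.fiberι (f.base (f.fiberι s z)))
  refine (CalgB.Depth1.depth_congr ((Fdesc.Skyscraper.stalkIso e _).trans
    (Fdesc.StructMod.stalkEquiv _).symm)).symm

theorem lefCond (A : Type u) [CommRing A] [IsNoetherianRing A] (X : Scheme.{u})
    [X.Over (Spec (CommRingCat.of A))] [IsProper (X ↘ Spec (CommRingCat.of A))]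
    [Flat (X ↘ Spec (CommRingCat.of A))] (𝓘 : X.IdealSheafData) (L : X.Modules)
    (hL : ClSub.IsInverseOf L (ClSub.idealMod 𝓘)) (hamp : CohB1.IsAmple L)
    (hdepth : ∀ x : X, IsClosed ({((X ↘ Spec (CommRingCat.of A))).asFiber x} :
      Set ↥(((X ↘ Spec (CommRingCat.of A))).fiber (((X ↘ Spec (CommRingCat.of A))).base x))) →
      (2 : ℕ∞) ≤ LocCoh.depth ↑(CInt.fiberStalk (X ↘ Spec (CommRingCat.of A)) x)
        ↑(CInt.fiberStalk (X ↘ Spec (CommRingCat.of A)) x)) : Lef.LefCond X 𝓘 := by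
  have hln : IsLocallyNoetherian X := LocallyOfFiniteType.isLocallyNoetherian (X ↘ Spec (CommRingCat.of A))
  have hesz := RelEsz.relEsz A X hL hamp (Coh.structureModule X) (CurvesB.UnitCoh.isCoh_structureModule X)
    (PerfB.StructFlat.isFlatOver_structure _) 1 (fun s z hz => by
      have h := depth_fibre (X ↘ Spec (CommRingCat.of A)) 2 hdepth s z hz
      exact lt_of_lt_of_le (show ((1 : ℕ) : ℕ∞) < ((2 : ℕ) : ℕ∞) from Nat.cast_lt.2 Nat.one_lt_two) h)
  intro U hU D hD
  have hcs : CompactSpace X := hamp.2.1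
  have hn : IsNoetherian X := {}
  obtain ⟨D', hD', ⟨e⟩⟩ := Sga67.CohLoc.exists_extension U.ι D (PerfA.CohSerre.isCoh_of_isFinLocFree hD)
  have h1 : Lef.HomToFormalBijective 𝓘 D' := LefAmple389.bijective_of_isCoh hL hamp
    (LefPow644.homToFormalBijective_tensorPow 𝓘 L hL hesz) hD'
  have hu : IsIso (ClSub.unitToPush U.ι) := LefMain389.isIso_unitToPush_of_funExt U
    (ParaExt.funExt_of_depth U fun x hx => by
      have h2 := ClosedFib.isClosed_asFiber (X ↘ Spec (CommRingCat.of A)) 𝓘 L hL hamp x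
        (fun _ hy h => hx (hy.mem_open U.isOpen (hU h)))
      exact (hdepth x h2).trans (FibDepth.depth_fiberStalk_le _ x))
  exact LefLeftExact.bijective_of_iso e (LefRes389.homToFormalBijective_restrict U.ι 𝓘 D' hu
    (by rw [Scheme.Opens.range_ι]; exact hU) h1)

end Groth.Agent.Sga2lef.H82.LefMain
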