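import Groth.Agent.Sga2.ESZ
import Groth.Agent.S0034
import Groth.Agent.Sga67.FlatPre
import Groth.Agent.CohqB.PullTwist471
import Groth.Agent.Ega4dB.DepthOpen
import Groth.Agent.FormalA.PullbackQC
import Groth.Agent.Flat2H.FamOpen
import Groth.Agent.Dix.IdealModCartier
import Groth.Agent.Sga2.StalkTw
import Mathlib.AlgebraicGeometry.Morphisms.FlatMono

/-!
# Torsion of the cohomology of negative twists from the generic fibre

`B` a Noetherian domain with fraction field `K`, `X` proper over `B` with an ample module `L` with inverse `P`,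
`X' = X ×_B K`. If the coherent module `F` has depth `> n` at the images of the closed points of `X'` then
`H^i(X, F ⊗ P^m)` is torsion for `i ≤ n` and `m` large.
-/

set_option autoImplicit false
universe u
open CategoryTheory CategoryTheory.Limits AlgebraicGeometry Opposite TopologicalSpace

namespace Groth.Agent.Sga2lef.H82.GenFib

open Groth.Agent.Sga2.TwIt Groth.Agent.Fdesc.PullbackStalk Groth.Agent.Fdesc.Skyscraper

/-- Inverses pull back to inverses. -/
theorem isInverseOf_pullback {X Y : Scheme.{u}} (f : Y ⟶ X) {L P : X.Modules} (h : ClSub.IsInverseOf L P) :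
    ClSub.IsInverseOf ((Scheme.Modules.pullback f).obj L) ((Scheme.Modules.pullback f).obj P) := by
  obtain ⟨hL, hP⟩ := Groth.Agent.Dix.IdealModCartier.isInvertible_of_isInverseOf h
  obtain ⟨e⟩ := h
  obtain ⟨e1⟩ := Groth.Agent.Dix.IdealModCartier.pullback_tensorMod f hL hP
  obtain ⟨e2⟩ := Groth.Agent.Ega3B.PullTensor.nonempty_pullUnitIso f
  exact ⟨e1.symm ≪≫ (Scheme.Modules.pullback f).mapIso e ≪≫ e2⟩

/-- Depth and pullback along a flat preimmersion. -/
theorem depth_pullback {X Y : Scheme.{u}} (j : X ⟶ Y) [Flat j] [SurjectiveOnStalks j] (M : Y.Modules) (x : X) :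
    LocCoh.depth (X.presheaf.stalk x) (((Scheme.Modules.pullback j).obj M).presheaf.stalk x) =
      LocCoh.depth (Y.presheaf.stalk (j.base x)) (M.presheaf.stalk (j.base x)) := by
  symm
  refine Groth.Agent.Ega4dB.DepthOpen.depth_congr_semilinear
    (RingEquiv.ofBijective (j.stalkMap x).hom (Groth.Agent.Sga67.FlatPre.stalkMap_bijective j x))
    (AddEquiv.ofBijective (canAdd j M x) (Groth.Agent.Sga67.FlatPre.canAdd_bijective j M x)) ?_
  intro r m
  exact canAdd_smul j M x r m

variable (B : Type u) [CommRing B] [IsDomain B] [IsNoetherianRing B] (K : Type u) [Field K] [Algebra B K]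
  [IsFractionRing B K]

omit [IsNoetherianRing B] in
theorem exists_smul_eq_zero {H : Type u} [AddCommGroup H] [Module B H]
    (h : Subsingleton (TensorProduct B K H)) (x : H) : ∃ s : B, s ≠ 0 ∧ s • x = 0 := by
  have h1 : IsLocalizedModule (nonZeroDivisors B) (TensorProduct.mk B K H 1) :=
    (isLocalizedModule_iff_isBaseChange (nonZeroDivisors B) K _).mpr (TensorProduct.isBaseChange B H K)
  have h2 : TensorProduct.mk B K H 1 x = 0 := Subsingleton.elim _ _
  obtain ⟨s, hs⟩ := (IsLocalizedModule.eq_zero_iff (nonZeroDivisors B) (TensorProduct.mk B K H 1)).mp h2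
  exact ⟨s.1, nonZeroDivisors.ne_zero s.2, hs⟩

theorem torsion_of_generic (X : Scheme.{u}) [X.Over (Spec (CommRingCat.of B))]
    [IsProper (X ↘ Spec (CommRingCat.of B))] (X' : Scheme.{u}) [X'.Over (Spec (CommRingCat.of K))]
    (j : X' ⟶ X) (H : IsPullback j (X' ↘ Spec (CommRingCat.of K)) (X ↘ Spec (CommRingCat.of B))
      (Spec.map (CommRingCat.ofHom (algebraMap B K)))) {L P : X.Modules}
    (hL : ClSub.IsInverseOf L P) (hamp : CohB1.IsAmple L) (F : X.Modules) (hF : Coh.IsCoh F) (n : ℕ)
    (hd : ∀ x' : X', IsClosed ({x'} : Set X') →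
      (n : ℕ∞) < LocCoh.depth (X.presheaf.stalk (j.base x')) (F.presheaf.stalk (j.base x'))) :
    ∃ m₂ : ℕ, ∀ m, m₂ ≤ m → ∀ i ≤ n, ∀ x : Coh.HH X ((It P m).obj F) i, ∃ b : B, b ≠ 0 ∧ b • x = 0 := by
  have hpr : IsProper (X' ↘ Spec (CommRingCat.of K)) := MorphismProperty.of_isPullback H inferInstance
  have haff : IsAffineHom j := MorphismProperty.of_isPullback H.flip inferInstance
  have hflB : Module.Flat B K := IsLocalization.flat K (nonZeroDivisors B)
  have hflS : Flat (Spec.map (CommRingCat.ofHom (algebraMap B K))) := by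
    rw [Flat.SpecMap_iff]
    exact RingHom.flat_algebraMap_iff.mpr hflB
  have hfl : Flat j := MorphismProperty.of_isPullback H.flip hflS
  have hsurS : SurjectiveOnStalks (Spec.map (CommRingCat.ofHom (algebraMap B K))) :=
    SurjectiveOnStalks.Spec_iff.mpr (RingHom.surjectiveOnStalks_of_isLocalization (nonZeroDivisors B) K)
  have hsur : SurjectiveOnStalks j := MorphismProperty.of_isPullback H.flip hsurS
  have hcs : CompactSpace X := (quasiCompact_iff_compactSpace (X ↘ (Spec (CommRingCat.of B)))).mp inferInstance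
  have hqs : QuasiSeparatedSpace X := quasiSeparatedSpace_of_quasiSeparated (X ↘ Spec (CommRingCat.of B))
  have hP : PicF.IsInvertible P := (Groth.Agent.Dix.IdealModCartier.isInvertible_of_isInverseOf hL).2
  obtain ⟨m₂, hm₂⟩ := Groth.Agent.Sga2.ESZ.esz K X' (isInverseOf_pullback j hL)
    (Groth.Agent.Flat2H.FamOpen.isAmple_pullback_of_isAffineHom j hamp) ((Scheme.Modules.pullback j).obj F)
    (Groth.Agent.FormalA.PullbackQC.isCoh_pullback j F hF) n
    (fun x' hx' => by rw [depth_pullback]; exact hd x' hx')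
  refine ⟨m₂, fun m hm i hi x => ?_⟩
  obtain ⟨e⟩ := Groth.Agent.Sga2.ItPow.nonempty_iso P F m
  obtain ⟨e'⟩ := Groth.Agent.CohqB.PullTwist471.nonempty_pull_twist j F hP m
  have hq : Coh.IsQCoh ((It P m).obj F) := Groth.Agent.Sga2.StalkTw.isQCoh_It hP hF.1 m
  obtain ⟨ε⟩ := Groth.Agent.S0034.result B K X X' j H ((It P m).obj F) i
  have h1 := hm₂ m hm i hi
  have h2 : Subsingleton (Coh.HH X' ((Scheme.Modules.pullback j).obj ((It P m).obj F)) i) :=
    (Groth.Agent.VarietyA.EulerLES.equivΓ ((Scheme.Modules.pullback j).mapIso e ≪≫ e') i).injective.subsingleton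
  exact exists_smul_eq_zero B K ε.injective.subsingleton x

end Groth.Agent.Sga2lef.H82.GenFib
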