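import Groth.Agent.Sga2lef.H82.GenVan
import Groth.Agent.Sga2lef.H82.GenFib
import Groth.Agent.Ega3B.FibreCmp
import Groth.Agent.Ega3B.MasterAsm
import Groth.Agent.CalgB.Depth1
import Groth.Agent.Fdesc.Skyscraper

/-!
# Generic vanishing at a prime, for `H^i(X, F ⊗ P^m ⊗_A B)`
-/

set_option autoImplicit false
universe u
open CategoryTheory CategoryTheory.Limits AlgebraicGeometry Opposite TopologicalSpace

namespace Groth.Agent.Sga2lef.H82.AtPrime

open Groth.Agent.Sga2.TwIt Groth.Agent.VarietyA.EulerLES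
open Groth.Agent.Ega3B.MasterAsm (TF)

section Domain

variable (B : Type u) [CommRing B] [IsDomain B] [IsNoetherianRing B] (K : Type u) [Field K] [Algebra B K]
  [IsFractionRing B K]

/-- Generic vanishing with the hypothesis on the generic fibre, in all degrees `≤ n`. -/
theorem gv_generic (X : Scheme.{u}) [X.Over (Spec (CommRingCat.of B))]
    [IsProper (X ↘ Spec (CommRingCat.of B))] (X' : Scheme.{u}) [X'.Over (Spec (CommRingCat.of K))]
    (j : X' ⟶ X) (H : IsPullback j (X' ↘ Spec (CommRingCat.of K)) (X ↘ Spec (CommRingCat.of B))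
      (Spec.map (CommRingCat.ofHom (algebraMap B K)))) {L P : X.Modules}
    (hL : ClSub.IsInverseOf L P) (hamp : CohB1.IsAmple L) (F : X.Modules) (hF : Coh.IsCoh F) (n : ℕ)
    (hd : ∀ x' : X', IsClosed ({x'} : Set X') →
      (n : ℕ∞) < LocCoh.depth (X'.presheaf.stalk x') (((Scheme.Modules.pullback j).obj F).presheaf.stalk x')) :
    ∃ a : B, a ≠ 0 ∧ ∃ m₁ : ℕ, ∀ m, m₁ ≤ m → ∀ i ≤ n, GenVan.PowTors a (Coh.HH X ((It P m).obj F) i) := by
  have hflB : Module.Flat B K := IsLocalization.flat K (nonZeroDivisors B)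
  have hflS : Flat (Spec.map (CommRingCat.ofHom (algebraMap B K))) := by
    rw [Flat.SpecMap_iff]
    exact RingHom.flat_algebraMap_iff.mpr hflB
  have hfl : Flat j := MorphismProperty.of_isPullback H.flip hflS
  have hsurS : SurjectiveOnStalks (Spec.map (CommRingCat.ofHom (algebraMap B K))) :=
    SurjectiveOnStalks.Spec_iff.mpr (RingHom.surjectiveOnStalks_of_isLocalization (nonZeroDivisors B) K)
  have hsur : SurjectiveOnStalks j := MorphismProperty.of_isPullback H.flip hsurS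
  let S : Set X := {y | ∃ x' : X', IsClosed ({x'} : Set X') ∧ j.base x' = y}
  have hfield : ∀ F : X.Modules, Coh.IsCoh F → ∀ n : ℕ,
      (∀ x ∈ S, (n : ℕ∞) < LocCoh.depth (X.presheaf.stalk x) (F.presheaf.stalk x)) →
      ∃ m₂ : ℕ, ∀ m, m₂ ≤ m → ∀ x : Coh.HH X ((It P m).obj F) n, ∃ b : B, b ≠ 0 ∧ b • x = 0 := by
    intro F hF n hd
    obtain ⟨m₂, hm₂⟩ := GenFib.torsion_of_generic B K X X' j H hL hamp F hF n
      (fun x' hx' => hd _ ⟨x', hx', rfl⟩)
    exact ⟨m₂, fun m hm x => hm₂ m hm n le_rfl x⟩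
  have hS : ∀ x ∈ S, (n : ℕ∞) < LocCoh.depth (X.presheaf.stalk x) (F.presheaf.stalk x) := by
    rintro _ ⟨x', hx', rfl⟩
    rw [← GenFib.depth_pullback j F x']
    exact hd x' hx'
  have key : ∀ i : ℕ, ∃ a : B, a ≠ 0 ∧ ∃ m₁ : ℕ, ∀ m, m₁ ≤ m → i ≤ n →
      GenVan.PowTors a (Coh.HH X ((It P m).obj F) i) := by
    intro i
    by_cases hi : i ≤ n
    · obtain ⟨a, ha, m₁, hm₁⟩ := GenVan.gv B hL hamp S hfield i F hF
        (fun x hx => lt_of_le_of_lt (by exact_mod_cast hi) (hS x hx))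
      exact ⟨a, ha, m₁, fun m hm _ => hm₁ m hm⟩
    · exact ⟨1, one_ne_zero, 0, fun m _ h => absurd h hi⟩
  choose a ha m₁ hm₁ using key
  refine ⟨∏ i ∈ Finset.range (n + 1), a i, Finset.prod_ne_zero_iff.mpr fun i _ => ha i,
    (Finset.range (n + 1)).sup m₁, fun m hm i hi => ?_⟩
  have hmem : i ∈ Finset.range (n + 1) := Finset.mem_range.mpr (Nat.lt_succ_of_le hi)
  rw [← Finset.prod_erase_mul (Finset.range (n + 1)) a hmem]
  exact (hm₁ i m ((Finset.le_sup (f := m₁) hmem).trans hm) hi).mul_left _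

end Domain

/-- Transport to `H^i(X, F ⊗ P^m ⊗_A B)`. -/
theorem at_prime (A : Type u) [CommRing A] (X : Scheme.{u}) [X.Over (Spec (CommRingCat.of A))]
    [IsProper (X ↘ Spec (CommRingCat.of A))] {L P : X.Modules} (hL : ClSub.IsInverseOf L P)
    (hamp : CohB1.IsAmple L) (F : X.Modules) (hF : Coh.IsCoh F)
    (B : Type u) [CommRing B] [IsDomain B] [IsNoetherianRing B] [Algebra A B]
    (hB : Function.Surjective (algebraMap A B)) (K : Type u) [Field K] [Algebra B K] [IsFractionRing B K]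
    (X₁ : Scheme.{u}) [X₁.Over (Spec (CommRingCat.of B))] (j₁ : X₁ ⟶ X)
    (H₁ : IsPullback j₁ (X₁ ↘ Spec (CommRingCat.of B)) (X ↘ Spec (CommRingCat.of A))
      (Spec.map (CommRingCat.ofHom (algebraMap A B))))
    (X₂ : Scheme.{u}) [X₂.Over (Spec (CommRingCat.of K))] (j₂ : X₂ ⟶ X₁)
    (H₂ : IsPullback j₂ (X₂ ↘ Spec (CommRingCat.of K)) (X₁ ↘ Spec (CommRingCat.of B))
      (Spec.map (CommRingCat.ofHom (algebraMap B K)))) (n : ℕ)
    (hd : ∀ x : X₂, IsClosed ({x} : Set X₂) → (n : ℕ∞) < LocCoh.depth (X₂.presheaf.stalk x)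
      (((Scheme.Modules.pullback (j₂ ≫ j₁)).obj F).presheaf.stalk x)) :
    ∃ a : A, algebraMap A B a ≠ 0 ∧ ∃ m₁ : ℕ, ∀ m, m₁ ≤ m → ∀ i ≤ n,
      ∀ x : (TF A ((It P m).obj F) i).obj (ModuleCat.of A B), ∃ k : ℕ,
        ((TF A ((It P m).obj F) i).map (a ^ k • 𝟙 (ModuleCat.of A B))).hom x = 0 := by
  have hP : PicF.IsInvertible P := (Groth.Agent.Dix.IdealModCartier.isInvertible_of_isInverseOf hL).2
  have hpr : IsProper (X₁ ↘ Spec (CommRingCat.of B)) := MorphismProperty.of_isPullback H₁ inferInstance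
  have haff : IsAffineHom j₁ := MorphismProperty.of_isPullback H₁.flip inferInstance
  obtain ⟨b, hb, m₁, hm₁⟩ := gv_generic B K X₁ X₂ j₂ H₂ (GenFib.isInverseOf_pullback j₁ hL)
    (Groth.Agent.Flat2H.FamOpen.isAmple_pullback_of_isAffineHom j₁ hamp) ((Scheme.Modules.pullback j₁).obj F)
    (Groth.Agent.FormalA.PullbackQC.isCoh_pullback j₁ F hF) n (fun x hx => by
      have e : (Scheme.Modules.pullback j₂).obj ((Scheme.Modules.pullback j₁).obj F) ≅
          (Scheme.Modules.pullback (j₂ ≫ j₁)).obj F := (Scheme.Modules.pullbackComp j₂ j₁).app F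
      exact (hd x hx).trans_eq
        (Groth.Agent.CalgB.Depth1.depth_congr (Groth.Agent.Fdesc.Skyscraper.stalkIso e x)).symm)
  obtain ⟨a, rfl⟩ := hB b
  refine ⟨a, hb, m₁, fun m hm i hi x => ?_⟩
  have hq : Coh.IsQCoh ((It P m).obj F) := Groth.Agent.Sga2.StalkTw.isQCoh_It hP hF.1 m
  obtain ⟨e, he⟩ := Groth.Agent.Ega3B.FibreCmp.exists_cmp j₁ (X₁ ↘ Spec (CommRingCat.of B)) H₁
    ((It P m).obj F) hq i
  obtain ⟨e₁⟩ := Groth.Agent.Sga2.ItPow.nonempty_iso P F m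
  obtain ⟨e₂⟩ := Groth.Agent.CohqB.PullTwist471.nonempty_pull_twist j₁ F hP m
  obtain ⟨e₃⟩ := Groth.Agent.Sga2.ItPow.nonempty_iso ((Scheme.Modules.pullback j₁).obj P)
    ((Scheme.Modules.pullback j₁).obj F) m
  let ψ := (Scheme.Modules.pullback j₁).mapIso e₁ ≪≫ e₂ ≪≫ e₃.symm
  obtain ⟨k, hk⟩ := hm₁ m hm i hi (equivA B ψ i (e.symm x))
  rw [← map_smul, EmbeddingLike.map_eq_zero_iff] at hk
  refine ⟨k, ?_⟩
  have h1 := he (algebraMap A B (a ^ k)) (e.symm x)
  rw [Groth.Agent.Ega3B.FibreCmp.mulB_algebraMap, AddEquiv.apply_symm_apply] at h1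
  rw [← h1]
  have h2 : (Coh.toGlobal (X₁ ↘ Spec (CommRingCat.of B)) (algebraMap A B (a ^ k)) : Coh.Γtop X₁) • e.symm x =
      (algebraMap A B a) ^ k • e.symm x := by
    rw [← map_pow]
    rfl
  rw [h2, hk, map_zero]

end Groth.Agent.Sga2lef.H82.AtPrime
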