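import Groth.Agent.Sga2.EszMain
import Groth.Agent.Sga2.EszSec
import Groth.Agent.S0002
import Groth.Agent.Sga2.EszAmple

/-!
# Generic vanishing of the cohomology of negative twists over a domain

`X` proper over a Noetherian domain `B`, `L` ample on `X` with inverse `P`. If the cohomology of the negative twists of
coherent sheaves of depth `> n` at the points of `S` is eventually `B`-torsion, then it is eventually torsion for the powers
of one and the same nonzero element of `B`.
-/

set_option autoImplicit false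
universe u
open CategoryTheory CategoryTheory.Limits AlgebraicGeometry Opposite TopologicalSpace

namespace Groth.Agent.Sga2lef.H82.GenVan

open Groth.Agent.Sga2.TwIt Groth.Agent.Sga2.NegSec Groth.Agent.Sga2.StalkTw Groth.Agent.Sga2.EszMain
open Groth.Agent.VarietyA.EulerLES

/-- Every element is killed by a power of `a`. -/
def PowTors {B : Type u} [CommRing B] (a : B) (H : Type u) [AddCommGroup H] [Module B H] : Prop :=
  ∀ x : H, ∃ k : ℕ, a ^ k • x = 0

section Alg

variable {B : Type u} [CommRing B] {H : Type u} [AddCommGroup H] [Module B H]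

theorem powTors_of_smul {a : B} (h : ∀ x : H, a • x = 0) : PowTors a H :=
  fun x => ⟨1, by rw [pow_one, h]⟩

theorem PowTors.mul_left {a : B} (h : PowTors a H) (c : B) : PowTors (c * a) H := fun x => by
  obtain ⟨k, hk⟩ := h x
  exact ⟨k, by rw [mul_pow, mul_smul, hk, smul_zero]⟩

/-- A finitely generated torsion module over a domain is killed by a nonzero element. -/
theorem exists_killer [IsDomain B] [Module.Finite B H] (h : ∀ x : H, ∃ b : B, b ≠ 0 ∧ b • x = 0) :
    ∃ a : B, a ≠ 0 ∧ ∀ x : H, a • x = 0 := by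
  classical
  obtain ⟨s, hs⟩ := Module.Finite.fg_top (R := B) (M := H)
  choose b hb hb' using h
  refine ⟨∏ x ∈ s, b x, Finset.prod_ne_zero_iff.mpr fun x _ => hb x, fun x => ?_⟩
  have hx : x ∈ Submodule.span B (s : Set H) := by rw [hs]; trivial
  induction hx using Submodule.span_induction with
  | mem y hy =>
    rw [← Finset.prod_erase_mul s b hy, mul_smul, hb', smul_zero]
  | zero => exact smul_zero _
  | add y z _ _ hy hz => rw [smul_add, hy, hz, add_zero]
  | smul c y _ hy => rw [smul_comm, hy, smul_zero]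

end Alg

variable {X : Scheme.{u}} (B : Type u) [CommRing B] [X.Over (Spec (CommRingCat.of B))]

/-- The kernel of a regular section on cohomology is power torsion if the cohomology of the cokernel is. -/
theorem ker_tors {P : X.Modules} (hP : PicF.IsInvertible P) {d : ℕ} (s : Sec P d) {F : X.Modules}
    [Mono (s.hom hP F)] (m i : ℕ) (c : B)
    (h : ∀ j, j + 1 = i → PowTors c (Coh.HH X ((It P m).obj (cokernel (s.hom hP F))) j))
    (x : Coh.HH X ((It P d).obj ((It P m).obj F)) i) (hx : mapA B (s.hom hP ((It P m).obj F)) i x = 0) :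
    ∃ k : ℕ, c ^ k • x = 0 := by
  have hS : (ShortComplex.mk (s.hom hP F) (cokernel.π (s.hom hP F)) (cokernel.condition _)).ShortExact :=
    { exact := ShortComplex.exact_of_g_is_cokernel _ (cokernelIsCokernel _)
      mono_f := inferInstance
      epi_g := inferInstance }
  have h1 := shortExact_twist hP s (cokernel.π (s.hom hP F)) (cokernel.condition _) hS m
  cases i with
  | zero =>
    have h2 := injectiveA₀ B _ h1
    refine ⟨0, ?_⟩
    have h3 : x = 0 := h2 (by rw [map_zero]; exact hx)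
    rw [h3, smul_zero]
  | succ j =>
    obtain ⟨y, hy⟩ := (exactA₁ B _ h1 j (j + 1) rfl x).mp hx
    obtain ⟨k, hk⟩ := h j rfl y
    refine ⟨k, ?_⟩
    rw [← hy, ← map_smul, hk, map_zero]

/-- Propagation of torsion along a regular section of positive degree. -/
theorem tors_of_range {P : X.Modules} (hP : PicF.IsInvertible P) {d : ℕ} (hd : 0 < d) (s : Sec P d) {F : X.Modules}
    [Mono (s.hom hP F)] (i : ℕ) (c e : B) (m₁ : ℕ)
    (h : ∀ m, m₁ ≤ m → ∀ j, j + 1 = i → PowTors c (Coh.HH X ((It P m).obj (cokernel (s.hom hP F))) j))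
    (he : ∀ m, m₁ ≤ m → m < m₁ + d → PowTors e (Coh.HH X ((It P m).obj F) i)) (m : ℕ) (hm : m₁ ≤ m) :
    PowTors (c * e) (Coh.HH X ((It P m).obj F) i) := by
  induction m using Nat.strong_induction_on with
  | _ m ih =>
    by_cases hlt : m < m₁ + d
    · exact (he m hm hlt).mul_left c
    · obtain ⟨l, rfl⟩ : ∃ l, m = l + d := ⟨m - d, by omega⟩
      have ihl := ih l (by omega) (by omega)
      rw [It_add_obj]
      intro x
      obtain ⟨k, hk⟩ := ihl (mapA B (s.hom hP ((It P l).obj F)) i x)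
      rw [← map_smul] at hk
      obtain ⟨k', hk'⟩ := ker_tors B hP s l i c (h l (by omega)) _ hk
      refine ⟨k' + k, ?_⟩
      rw [pow_add, mul_smul, mul_pow, mul_comm, mul_smul, hk', smul_zero]

/-- Sections of powers of the inverse of `P` which do not vanish at finitely many given points. -/
theorem exists_sec [CompactSpace X] [X.IsSeparated] {L P : X.Modules} (hL : ClSub.IsInverseOf L P)
    (hamp : CohB1.IsAmple L) (Z : Set X) (hZ : Z.Finite) :
    ∃ (d : ℕ) (_ : 0 < d) (s : Sec P d), ∀ z ∈ Z, NV s z := by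
  obtain ⟨θ⟩ := hL
  obtain ⟨n, s, h1, -⟩ := Groth.Agent.Sga2.AmpleSec.exists_affine_genLocus hamp Z hZ
  refine ⟨n + 1, Nat.succ_pos _, Groth.Agent.Sga2.EszSec.ofSec θ s, fun z hz V hzV p hp => ?_⟩
  have h2 := Groth.Agent.Fdesc.LocGen.genLocus_inf_eq s
    ((Groth.Agent.Sga2.EszSec.isGen_dual θ (p := p) hp).pow (n + 1))
    (Groth.Agent.Sga2.EszSec.coef_spec θ s (p := p) hp)
  have h3 : z ∈ CohB1.genLocus _ s ⊓ V := ⟨h1 hz, hzV⟩
  rw [h2] at h3
  exact h3

/-- Generic vanishing. -/
theorem gv [IsDomain B] [IsNoetherianRing B] [IsProper (X ↘ Spec (CommRingCat.of B))] {L P : X.Modules}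
    (hL : ClSub.IsInverseOf L P) (hamp : CohB1.IsAmple L) (S : Set X)
    (hfield : ∀ F : X.Modules, Coh.IsCoh F → ∀ n : ℕ,
      (∀ x ∈ S, (n : ℕ∞) < LocCoh.depth (X.presheaf.stalk x) (F.presheaf.stalk x)) →
      ∃ m₂ : ℕ, ∀ m, m₂ ≤ m → ∀ x : Coh.HH X ((It P m).obj F) n, ∃ b : B, b ≠ 0 ∧ b • x = 0) (n : ℕ) :
    ∀ F : X.Modules, Coh.IsCoh F →
      (∀ x ∈ S, (n : ℕ∞) < LocCoh.depth (X.presheaf.stalk x) (F.presheaf.stalk x)) →
      ∃ a : B, a ≠ 0 ∧ ∃ m₁ : ℕ, ∀ m, m₁ ≤ m → PowTors a (Coh.HH X ((It P m).obj F) n) := by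
  have hP : PicF.IsInvertible P := Groth.Agent.Sga2.EszAmple.isInvertible_right hL
  have : IsLocallyNoetherian X := LocallyOfFiniteType.isLocallyNoetherian (X ↘ Spec (CommRingCat.of B))
  have : CompactSpace X := (quasiCompact_iff_compactSpace (X ↘ (Spec (CommRingCat.of B)))).mp inferInstance
  have : X.IsSeparated := by
    refine ⟨?_⟩
    rw [← terminal.comp_from (X ↘ Spec (CommRingCat.of B))]
    infer_instance
  induction n with
  | zero =>
    intro F hF hd
    obtain ⟨m₂, hm₂⟩ := hfield F hF 0 hd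
    have hZ : (AssSch.Ass F).Finite :=
      (Groth.Agent.S1576.result X F hF ⊤ isCompact_univ).subset fun x hx => ⟨trivial, hx⟩
    obtain ⟨d, hd0, s, hs⟩ := exists_sec hL hamp _ hZ
    have hmono : Mono (s.hom hP F) := mono_hom hP s hF.1 hs
    have hkill : ∀ m, m₂ ≤ m → ∃ e : B, e ≠ 0 ∧ ∀ x : Coh.HH X ((It P m).obj F) 0, e • x = 0 := by
      intro m hm
      have := Groth.Agent.S0002.result B X _ (isCoh_It hP hF m) 0
      exact exists_killer (hm₂ m hm)
    choose! e he he' using hkill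
    refine ⟨1 * ∏ m ∈ Finset.Ico m₂ (m₂ + d), e m, mul_ne_zero one_ne_zero
      (Finset.prod_ne_zero_iff.mpr fun m hm => he m (Finset.mem_Ico.mp hm).1), m₂, fun m hm => ?_⟩
    refine tors_of_range B hP hd0 s 0 1 _ m₂ (fun m _ j hj => absurd hj (by omega)) (fun m hm hlt => ?_) m hm
    refine powTors_of_smul fun x => ?_
    rw [← Finset.prod_erase_mul (Finset.Ico m₂ (m₂ + d)) e (Finset.mem_Ico.mpr ⟨hm, hlt⟩), mul_smul,
      he' m hm, smul_zero]
  | succ n ih =>
    intro F hF hd
    obtain ⟨m₂, hm₂⟩ := hfield F hF (n + 1) hd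
    have hZ : (AssSch.Ass F).Finite :=
      (Groth.Agent.S1576.result X F hF ⊤ isCompact_univ).subset fun x hx => ⟨trivial, hx⟩
    obtain ⟨d, hd0, s, hs⟩ := exists_sec hL hamp _ hZ
    have hmono : Mono (s.hom hP F) := mono_hom hP s hF.1 hs
    obtain ⟨c, hc, m₁, hm₁⟩ := ih (cokernel (s.hom hP F))
      (Groth.Agent.CohqB.SerTw.isCoh_cokernel _ (isQCoh_It hP hF.1 d) hF)
      (fun x hx => lt_depth_cokernel hP s hF x n (hd x hx))
    have hkill : ∀ m, m₂ ≤ m → ∃ e : B, e ≠ 0 ∧ ∀ x : Coh.HH X ((It P m).obj F) (n + 1), e • x = 0 := by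
      intro m hm
      have := Groth.Agent.S0002.result B X _ (isCoh_It hP hF m) (n + 1)
      exact exists_killer (hm₂ m hm)
    choose! e he he' using hkill
    let M₀ := max m₁ m₂
    have hM₁ : m₁ ≤ M₀ := le_max_left _ _
    have hM₂ : m₂ ≤ M₀ := le_max_right _ _
    refine ⟨c * ∏ m ∈ Finset.Ico M₀ (M₀ + d), e m, mul_ne_zero hc
      (Finset.prod_ne_zero_iff.mpr fun m hm => he m (hM₂.trans (Finset.mem_Ico.mp hm).1)), M₀, fun m hm => ?_⟩
    refine tors_of_range B hP hd0 s (n + 1) c _ M₀ (fun m hm j hj => ?_) (fun m hm hlt => ?_) m hm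
    · obtain rfl : j = n := by omega
      exact hm₁ m (hM₁.trans hm)
    · refine powTors_of_smul fun x => ?_
      rw [← Finset.prod_erase_mul (Finset.Ico M₀ (M₀ + d)) e (Finset.mem_Ico.mpr ⟨hm, hlt⟩), mul_smul,
        he' m (hM₂.trans hm), smul_zero]

end Groth.Agent.Sga2lef.H82.GenVan
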